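import Mathlib
import Groth.Prelude.Def_W4stkadequateTF

/-! Tangent modules of module-valued functors: functoriality and exactness in the functor. -/

set_option autoImplicit false
set_option backward.isDefEq.respectTransparency false
set_option backward.isDefEq.respectTransparency.types false
universe u

open CategoryTheory Limits AdeqTF

namespace Groth.Agent.AdeqTan

variable {A : Type u} [CommRing A]

theorem map_map (F : Adeq.MVF A) {P Q R : Adeq.Alg A} (f : P ⟶ Q) (g : Q ⟶ R) (x : F.obj (Adeq.pt P)) :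
    F.map (Adeq.ptHom g) (F.map (Adeq.ptHom f) x) = F.map (Adeq.ptHom (f ≫ g)) x :=
  (F.map_comp_apply (Adeq.ptHom f) (Adeq.ptHom g) x).symm

theorem map_congr (F : Adeq.MVF A) {P Q : Adeq.Alg A} {f g : P ⟶ Q} (h : f = g) (x : F.obj (Adeq.pt P)) :
    F.map (Adeq.ptHom f) x = F.map (Adeq.ptHom g) x := by rw [h]

theorem map_id' (F : Adeq.MVF A) {P : Adeq.Alg A} (x : F.obj (Adeq.pt P)) :
    F.map (Adeq.ptHom (𝟙 P)) x = x := by
  change F.presheaf.map (𝟙 _) x = x
  rw [F.presheaf.map_id]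
  rfl

theorem mem_tangent_iff {B : Adeq.Alg A} {N : ModuleCat.{u} B} (F : Adeq.MVF A) (x : F.obj (Adeq.pt (ext B N))) :
    x ∈ tangent B N F ↔ F.map (Adeq.ptHom (fst B N)) x = 0 := Iff.rfl

theorem tangentMap_val {B : Adeq.Alg A} {N N' : ModuleCat.{u} B} (F : Adeq.MVF A) (g : N ⟶ N') (x : tangent B N F) :
    (tangentMap B F g x).1 = F.map (Adeq.ptHom (map B g)) x.1 := rfl

theorem inl_fst (B : Adeq.Alg A) (N : ModuleCat.{u} B) : inl B N ≫ fst B N = 𝟙 B :=
  CommAlgCat.hom_ext (AlgHom.ext fun b => TrivSqZeroExt.fst_inl N b)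

theorem map_comp_map {B : Adeq.Alg A} {N N' N'' : ModuleCat.{u} B} (f : N ⟶ N') (g : N' ⟶ N'') :
    map B f ≫ map B g = map B (f ≫ g) := by
  refine CommAlgCat.hom_ext (AlgHom.ext fun x => TrivSqZeroExt.ext ?_ ?_) <;> simp [AdeqTF.map]

theorem map_id_map {B : Adeq.Alg A} {N : ModuleCat.{u} B} : map B (𝟙 N) = 𝟙 (ext B N) := by
  refine CommAlgCat.hom_ext (AlgHom.ext fun x => TrivSqZeroExt.ext ?_ ?_) <;> simp [AdeqTF.map]

theorem map_zero_map {B : Adeq.Alg A} {N N' : ModuleCat.{u} B} : map B (0 : N ⟶ N') = fst B N ≫ inl B N' := by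
  refine CommAlgCat.hom_ext (AlgHom.ext fun x => TrivSqZeroExt.ext ?_ ?_) <;>
    simp [AdeqTF.map, fst, inl, Algebra.ofId_apply, TrivSqZeroExt.algebraMap_eq_inl]

theorem tangentMap_comp {B : Adeq.Alg A} {N N' N'' : ModuleCat.{u} B} (F : Adeq.MVF A) (f : N ⟶ N') (g : N' ⟶ N'')
    (x : tangent B N F) : tangentMap B F g (tangentMap B F f x) = tangentMap B F (f ≫ g) x := by
  refine Subtype.ext ?_
  rw [tangentMap_val, tangentMap_val, tangentMap_val, map_map]
  exact map_congr F (map_comp_map f g) _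

theorem tangentMap_id {B : Adeq.Alg A} {N : ModuleCat.{u} B} (F : Adeq.MVF A) (x : tangent B N F) :
    tangentMap B F (𝟙 N) x = x := by
  refine Subtype.ext ?_
  rw [tangentMap_val, map_congr F map_id_map, map_id']

theorem tangentMap_zero {B : Adeq.Alg A} {N N' : ModuleCat.{u} B} (F : Adeq.MVF A) (x : tangent B N F) :
    tangentMap B F (0 : N ⟶ N') x = 0 := by
  refine Subtype.ext ?_
  rw [tangentMap_val, map_congr F map_zero_map, ← map_map, (mem_tangent_iff F x.1).mp x.2, map_zero]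
  rfl

/-- The map of tangent modules induced by a map of functors. -/
noncomputable def tApp {F G : Adeq.MVF A} (φ : F ⟶ G) (B : Adeq.Alg A) (N : ModuleCat.{u} B) :
    tangent B N F →+ tangent B N G :=
  ((φ.app (Adeq.pt (ext B N))).hom.toAddMonoidHom.comp (tangent B N F).subtype).codRestrict (tangent B N G)
    fun x => by
      rw [mem_tangent_iff]
      change G.map _ (φ.app _ x.1) = 0
      rw [← PresheafOfModules.naturality_apply, (mem_tangent_iff F x.1).mp x.2, map_zero]

theorem tApp_val {F G : Adeq.MVF A} (φ : F ⟶ G) {B : Adeq.Alg A} {N : ModuleCat.{u} B} (x : tangent B N F) :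
    (tApp φ B N x).1 = φ.app _ x.1 := rfl

theorem tApp_nat {F G : Adeq.MVF A} (φ : F ⟶ G) {B : Adeq.Alg A} {N N' : ModuleCat.{u} B} (g : N ⟶ N')
    (x : tangent B N F) : tApp φ B N' (tangentMap B F g x) = tangentMap B G g (tApp φ B N x) := by
  refine Subtype.ext ?_
  rw [tangentMap_val, tApp_val, tApp_val, tangentMap_val, PresheafOfModules.naturality_apply]

variable {C : ShortComplex (Adeq.MVF A)}

theorem app_inj (hC : C.ShortExact) (X : (Adeq.Alg A)ᵒᵖᵒᵖ) : Function.Injective (C.f.app X) := by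
  haveI := hC.mono_f
  exact PresheafOfModules.injective_of_mono C.f X

theorem app_surj (hC : C.ShortExact) (X : (Adeq.Alg A)ᵒᵖᵒᵖ) : Function.Surjective (C.g.app X) := by
  haveI := hC.epi_g
  exact PresheafOfModules.surjective_of_epi C.g X

theorem eval_exact {J : Type (u + 1)} [Category.{u} J] {R : Jᵒᵖ ⥤ RingCat.{u}}
    {S : ShortComplex (PresheafOfModules.{u + 1} R)} (hS : S.ShortExact) (X : Jᵒᵖ) :
    Function.Exact (S.f.app X) (S.g.app X) :=
  (ShortComplex.ShortExact.moduleCat_exact_iff_function_exact _).mp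
    ((hS.map_of_exact (PresheafOfModules.evaluation.{u + 1} R X)).exact)

theorem app_exact (hC : C.ShortExact) (X : (Adeq.Alg A)ᵒᵖᵒᵖ) : Function.Exact (C.f.app X) (C.g.app X) :=
  eval_exact hC X

theorem tApp_injective (hC : C.ShortExact) (B : Adeq.Alg A) (N : ModuleCat.{u} B) :
    Function.Injective (tApp C.f B N) := fun x y h => Subtype.ext (app_inj hC _ (congrArg Subtype.val h))

theorem tApp_surjective (hC : C.ShortExact) (B : Adeq.Alg A) (N : ModuleCat.{u} B) :
    Function.Surjective (tApp C.g B N) := by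
  intro z
  obtain ⟨y, hy⟩ := app_surj hC (Adeq.pt (ext B N)) z.1
  let w : C.X₂.obj (Adeq.pt (ext B N)) := C.X₂.map (Adeq.ptHom (inl B N)) (C.X₂.map (Adeq.ptHom (fst B N)) y)
  refine ⟨⟨y - w, ?_⟩, Subtype.ext ?_⟩
  · rw [mem_tangent_iff, map_sub]
    simp only [w]
    rw [map_map C.X₂ (inl B N) (fst B N), map_congr C.X₂ (inl_fst B N), map_id', sub_self]
  · rw [tApp_val, map_sub]
    simp only [w]
    rw [PresheafOfModules.naturality_apply, PresheafOfModules.naturality_apply, hy,
      (mem_tangent_iff C.X₃ z.1).mp z.2, map_zero, sub_zero]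

theorem tApp_exact (hC : C.ShortExact) (B : Adeq.Alg A) (N : ModuleCat.{u} B) :
    Function.Exact (tApp C.f B N) (tApp C.g B N) := by
  intro y
  constructor
  · intro h
    obtain ⟨x, hx⟩ := (app_exact hC _ y.1).mp (congrArg Subtype.val h)
    refine ⟨⟨x, ?_⟩, Subtype.ext hx⟩
    rw [mem_tangent_iff]
    apply app_inj hC (Adeq.pt B)
    erw [PresheafOfModules.naturality_apply, hx, (mem_tangent_iff _ y.1).mp y.2, map_zero]
  · rintro ⟨x, rfl⟩
    exact Subtype.ext ((app_exact hC _ _).mpr ⟨x.1, rfl⟩)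

end Groth.Agent.AdeqTan
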