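import Groth.Agent.AdeqTan.Basic

/-! An injective module-valued functor sends surjections of algebras to surjections. -/

set_option autoImplicit false
set_option backward.isDefEq.respectTransparency false
set_option backward.isDefEq.respectTransparency.types false
universe u

open CategoryTheory Limits

namespace Groth.Agent.AdeqTan

variable {J : Type (u + 1)} [Category.{u} J] {R : Jᵒᵖ ⥤ RingCat.{u}}

/-- Values of the free presheaf of modules on the representable presheaf of `Y`. -/
abbrev repVal (R : Jᵒᵖ ⥤ RingCat.{u}) (Y X : Jᵒᵖ) : Type (u + 1) := ULift.{u + 1} (Y ⟶ X) →₀ R.obj X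

/-- The transition maps of the free presheaf of modules on a representable presheaf. -/
noncomputable def repMap (R : Jᵒᵖ ⥤ RingCat.{u}) (Y : Jᵒᵖ) {X X' : Jᵒᵖ} (f : X ⟶ X') :
    repVal R Y X →ₛₗ[(R.map f).hom] repVal R Y X' where
  toFun z := (z.mapRange (R.map f).hom (map_zero _)).mapDomain fun e => ⟨e.down ≫ f⟩
  map_add' a b := by rw [Finsupp.mapRange_add (by simp), Finsupp.mapDomain_add]
  map_smul' r a := by
    induction a using Finsupp.induction_linear with
    | zero => simp
    | add p q hp hq => rw [smul_add, Finsupp.mapRange_add (by simp), Finsupp.mapDomain_add, hp, hq,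
        Finsupp.mapRange_add (by simp), Finsupp.mapDomain_add, smul_add]
    | single e c => rw [Finsupp.smul_single, smul_eq_mul, Finsupp.mapRange_single, Finsupp.mapDomain_single, map_mul,
        Finsupp.mapRange_single, Finsupp.mapDomain_single, Finsupp.smul_single, smul_eq_mul]

theorem repMap_single (Y : Jᵒᵖ) {X X' : Jᵒᵖ} (f : X ⟶ X') (e : ULift.{u + 1} (Y ⟶ X)) (c : R.obj X) :
    repMap R Y f (Finsupp.single e c) = Finsupp.single ⟨e.down ≫ f⟩ ((R.map f).hom c) := by
  change (((Finsupp.single e c).mapRange _ (map_zero _)).mapDomain _) = _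
  rw [Finsupp.mapRange_single, Finsupp.mapDomain_single]

/-- The free presheaf of modules on a representable presheaf, one universe up. -/
noncomputable def repMod (R : Jᵒᵖ ⥤ RingCat.{u}) (Y : Jᵒᵖ) : PresheafOfModules.{u + 1} R where
  obj X := ModuleCat.of (R.obj X) (repVal R Y X)
  map {X X'} f := ModuleCat.ofHom
    (Y := (ModuleCat.restrictScalars (R.map f).hom).obj (ModuleCat.of (R.obj X') (repVal R Y X')))
    { toFun := repMap R Y f, map_add' := (repMap R Y f).map_add, map_smul' := (repMap R Y f).map_smulₛₗ }
  map_id X := by
    ext1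
    refine LinearMap.ext fun (z : repVal R Y X) => ?_
    induction z using Finsupp.induction_linear with
    | zero => exact (map_zero (repMap R Y (𝟙 X))).trans (map_zero _).symm
    | add p q hp hq => exact (map_add _ p q).trans ((congrArg₂ (· + ·) hp hq).trans (map_add _ p q).symm)
    | single e c =>
      change repMap R Y (𝟙 X) (Finsupp.single e c) = Finsupp.single e c
      rw [repMap_single, R.map_id, Category.comp_id]
      rfl
  map_comp {X X' X''} f g := by
    ext1
    refine LinearMap.ext fun (z : repVal R Y X) => ?_
    induction z using Finsupp.induction_linear with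
    | zero => exact (map_zero (repMap R Y (f ≫ g))).trans (map_zero _).symm
    | add p q hp hq => exact (map_add _ p q).trans ((congrArg₂ (· + ·) hp hq).trans (map_add _ p q).symm)
    | single e c =>
      change repMap R Y (f ≫ g) (Finsupp.single e c) = repMap R Y g (repMap R Y f (Finsupp.single e c))
      rw [repMap_single, repMap_single, repMap_single, R.map_comp, Category.assoc]
      rfl

/-- Precomposition on the free presheaves of modules. -/
noncomputable def repPre (R : Jᵒᵖ ⥤ RingCat.{u}) {Y Y' : Jᵒᵖ} (p : Y ⟶ Y') : repMod R Y' ⟶ repMod R Y where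
  app X := ModuleCat.ofHom (Finsupp.lmapDomain (R.obj X) (R.obj X) fun e => ⟨p ≫ e.down⟩)
  naturality {X X'} f := by
    ext1
    refine LinearMap.ext fun (z : repVal R Y' X) => ?_
    induction z using Finsupp.induction_linear with
    | zero => exact (map_zero _).trans (map_zero _).symm
    | add a b ha hb => exact (map_add _ a b).trans ((congrArg₂ (· + ·) ha hb).trans (map_add _ a b).symm)
    | single e c =>
      change (repMap R Y' f (Finsupp.single e c)).mapDomain _ = repMap R Y f ((Finsupp.single e c).mapDomain _)
      rw [repMap_single, Finsupp.mapDomain_single, Finsupp.mapDomain_single, repMap_single, Category.assoc]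

theorem mono_repPre {Y Y' : Jᵒᵖ} (p : Y ⟶ Y') [Epi p] : Mono (repPre R p) :=
  PresheafOfModules.mono_of_injective fun _ => Finsupp.mapDomain_injective fun _ _ h =>
    ULift.ext _ _ ((cancel_epi p).mp (congrArg ULift.down h))

/-- The map out of a free presheaf of modules given by a section. -/
noncomputable def repDesc {I : PresheafOfModules.{u + 1} R} {Y : Jᵒᵖ} (x : I.obj Y) : repMod R Y ⟶ I where
  app X := ModuleCat.ofHom (Finsupp.linearCombination (R.obj X) fun e : ULift.{u + 1} (Y ⟶ X) => (I.map e.down x : I.obj X))
  naturality {X X'} f := by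
    ext1
    refine LinearMap.ext fun (z : repVal R Y X) => ?_
    induction z using Finsupp.induction_linear with
    | zero => exact (map_zero _).trans (map_zero _).symm
    | add a b ha hb => exact (map_add _ a b).trans ((congrArg₂ (· + ·) ha hb).trans (map_add _ a b).symm)
    | single e c =>
      change Finsupp.linearCombination (R.obj X') _ (repMap R Y f (Finsupp.single e c)) =
        I.map f (Finsupp.linearCombination (R.obj X) _ (Finsupp.single e c))
      rw [repMap_single, Finsupp.linearCombination_single, Finsupp.linearCombination_single]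
      exact ((I.map_smul f c _).trans (congrArg _ (I.map_comp_apply e.down f x).symm)).symm

theorem map_surjective_of_injective (I : PresheafOfModules.{u + 1} R) [Injective I] {Y Y' : Jᵒᵖ} (p : Y ⟶ Y')
    [Epi p] : Function.Surjective (I.map p) := by
  intro (x : I.obj Y')
  haveI := mono_repPre (R := R) p
  obtain ⟨g, hg⟩ := Injective.factors (repDesc (I := I) x) (repPre R p)
  refine ⟨g.app Y (Finsupp.single (ULift.up (𝟙 Y)) (1 : R.obj Y) : repVal R Y Y), ?_⟩
  have h := congrArg (fun φ => φ.app Y' (Finsupp.single (ULift.up (𝟙 Y')) (1 : R.obj Y') : repVal R Y' Y')) hg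
  refine (PresheafOfModules.naturality_apply g p _).symm.trans ?_
  have e1 : (repMod R Y).map p (Finsupp.single (ULift.up (𝟙 Y)) (1 : R.obj Y) : repVal R Y Y) =
      (repPre R p).app Y' (Finsupp.single (ULift.up (𝟙 Y')) (1 : R.obj Y') : repVal R Y' Y') := by
    change repMap R Y p (Finsupp.single (ULift.up (𝟙 Y)) (1 : R.obj Y)) =
      Finsupp.mapDomain _ (Finsupp.single (ULift.up (𝟙 Y')) (1 : R.obj Y'))
    rw [repMap_single, Finsupp.mapDomain_single, map_one]
    simp
  rw [e1]
  refine h.trans ?_
  change Finsupp.linearCombination (R.obj Y') _ (Finsupp.single (ULift.up (𝟙 Y')) (1 : R.obj Y')) = x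
  rw [Finsupp.linearCombination_single]
  change (1 : R.obj Y') • I.presheaf.map (𝟙 Y') x = x
  rw [I.presheaf.map_id, one_smul]
  rfl

theorem surjective_of_surjective {A : Type u} [CommRing A] (I : Adeq.MVF A) [Injective I] {D D' : Adeq.Alg A}
    (p : D ⟶ D') (hp : Function.Surjective p.hom) : Function.Surjective (I.map (Adeq.ptHom p)) := by
  haveI : Epi p := ⟨fun g h w => CommAlgCat.hom_ext (AlgHom.ext fun d' => by
    obtain ⟨d, rfl⟩ := hp d'
    exact congrArg (fun φ => φ.hom d) w)⟩
  haveI : Mono p.op := op_mono_of_epi p
  haveI : Epi (Adeq.ptHom p) := op_epi_of_mono p.op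
  exact map_surjective_of_injective I (Adeq.ptHom p)

end Groth.Agent.AdeqTan
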